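import Mathlib.AlgebraicGeometry.IdealSheaf.Subscheme
import Mathlib.AlgebraicGeometry.Morphisms.ClosedImmersion

/-!
The scheme-theoretic union of two closed subschemes is a pushout along their intersection.
-/

universe u

open CategoryTheory Limits AlgebraicGeometry TopologicalSpace

noncomputable section

namespace Groth.Agent.SubUnion

section Ring

variable {A : Type u} [CommRing A] (I J : Ideal A)

lemma factor_inf_injective {a b : A ⧸ (I ⊓ J)}
    (h₁ : Ideal.Quotient.factor (inf_le_left : I ⊓ J ≤ I) a = Ideal.Quotient.factor inf_le_left b)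
    (h₂ : Ideal.Quotient.factor (inf_le_right : I ⊓ J ≤ J) a = Ideal.Quotient.factor inf_le_right b) :
    a = b := by
  obtain ⟨a, rfl⟩ := Ideal.Quotient.mk_surjective a
  obtain ⟨b, rfl⟩ := Ideal.Quotient.mk_surjective b
  simp only [Ideal.Quotient.factor_mk, Ideal.Quotient.eq] at h₁ h₂
  exact Ideal.Quotient.eq.mpr ⟨h₁, h₂⟩

lemma exists_lift {R : Type u} [CommRing R] (φ : R →+* A ⧸ I) (ψ : R →+* A ⧸ J)
    (h : ∀ r, Ideal.Quotient.factor (le_sup_left : I ≤ I ⊔ J) (φ r) =
      Ideal.Quotient.factor le_sup_right (ψ r)) :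
    ∃ χ : R →+* A ⧸ (I ⊓ J), (Ideal.Quotient.factor inf_le_left).comp χ = φ ∧
      (Ideal.Quotient.factor inf_le_right).comp χ = ψ := by
  have key : ∀ r, ∃ c : A ⧸ (I ⊓ J), Ideal.Quotient.factor inf_le_left c = φ r ∧
      Ideal.Quotient.factor inf_le_right c = ψ r := fun r ↦ by
    obtain ⟨a, ha⟩ := Ideal.Quotient.mk_surjective (φ r)
    obtain ⟨b, hb⟩ := Ideal.Quotient.mk_surjective (ψ r)
    have := h r
    rw [← ha, ← hb, Ideal.Quotient.factor_mk, Ideal.Quotient.factor_mk, Ideal.Quotient.eq,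
      Submodule.mem_sup] at this
    obtain ⟨i, hi, j, hj, hij⟩ := this
    refine ⟨Ideal.Quotient.mk _ (a - i), ?_, ?_⟩
    · rw [Ideal.Quotient.factor_mk, ← ha, Ideal.Quotient.eq]
      simpa using hi
    · rw [Ideal.Quotient.factor_mk, ← hb, Ideal.Quotient.eq]
      have : a - i - b = j := by linear_combination -hij
      rwa [this]
  choose χ h₁ h₂ using key
  exact ⟨{ toFun := χ
           map_one' := factor_inf_injective I J (by simp [h₁]) (by simp [h₂])
           map_mul' := fun x y ↦ factor_inf_injective I J (by simp [h₁]) (by simp [h₂])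
           map_zero' := factor_inf_injective I J (by simp [h₁]) (by simp [h₂])
           map_add' := fun x y ↦ factor_inf_injective I J (by simp [h₁]) (by simp [h₂]) },
    RingHom.ext h₁, RingHom.ext h₂⟩

end Ring

variable {S : Scheme.{u}}

/-- The chart `Spec (Γ(S, U) / I(U))` of the closed subscheme of `I`. -/
abbrev chart (I : S.IdealSheafData) (U : S.affineOpens) :
    Spec (.of (Γ(S, U) ⧸ I.ideal U)) ⟶ I.subscheme :=
  I.subschemeCover.f U

instance isOpenImmersion_chart (I : S.IdealSheafData) (U : S.affineOpens) :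
    IsOpenImmersion (chart I U) := I.subschemeCover.map_prop U

lemma opensRange_chart (I : S.IdealSheafData) (U : S.affineOpens) :
    (chart I U).opensRange = I.subschemeι ⁻¹ᵁ U.1 :=
  I.opensRange_subschemeCover_map U

lemma range_chart (I : S.IdealSheafData) (U : S.affineOpens) :
    Set.range (chart I U) = I.subschemeι ⁻¹' (U.1 : Set S) :=
  congrArg (fun O : I.subscheme.Opens ↦ (O : Set I.subscheme)) (opensRange_chart I U)

lemma factor_chart {I J : S.IdealSheafData} (h : I ≤ J) (U : S.affineOpens) :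
    Spec.map (CommRingCat.ofHom (Ideal.Quotient.factor (h U))) ≫ chart I U =
      chart J U ≫ Scheme.IdealSheafData.inclusion h :=
  (Scheme.IdealSheafData.subSchemeCover_map_inclusion h U).symm

/-- Morphisms into `Spec R` are given by ring maps. -/
lemma eq_toSpecΓ {X : Scheme.{u}} {R : CommRingCat.{u}} (f : X ⟶ Spec R) :
    f = X.toSpecΓ ≫ Spec.map ((Scheme.ΓSpecIso R).inv ≫ f.appTop) := by
  rw [Spec.map_comp, ← Scheme.toSpecΓ_naturality_assoc, toSpecΓ_SpecMap_ΓSpecIso_inv,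
    Category.comp_id]

variable (I J : S.IdealSheafData)

local notation "K" => I ⊓ J
local notation "ιa" => Scheme.IdealSheafData.inclusion (inf_le_left : I ⊓ J ≤ I)
local notation "ιb" => Scheme.IdealSheafData.inclusion (inf_le_right : I ⊓ J ≤ J)

lemma exists_preimage (z : (K).subscheme) :
    (∃ x : I.subscheme, ιa x = z) ∨ ∃ y : J.subscheme, ιb y = z := by
  have hz : (K).subschemeι z ∈ ((K).support : Set S) :=
    (K).range_subschemeι.le ⟨z, rfl⟩
  have hle : I * J ≤ I ⊓ J := fun U ↦ Ideal.mul_le_inf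
  have := Scheme.IdealSheafData.support_antitone hle hz
  rw [Scheme.IdealSheafData.support_mul] at this
  rcases this with h | h
  · obtain ⟨x, hx⟩ := I.range_subschemeι.ge h
    refine .inl ⟨x, (K).subschemeι.isEmbedding.injective ?_⟩
    rw [← hx, ← Scheme.Hom.comp_apply, Scheme.IdealSheafData.inclusion_subschemeι]
  · obtain ⟨x, hx⟩ := J.range_subschemeι.ge h
    refine .inr ⟨x, (K).subschemeι.isEmbedding.injective ?_⟩
    rw [← hx, ← Scheme.Hom.comp_apply, Scheme.IdealSheafData.inclusion_subschemeι]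

/-- Two morphisms out of an open of the union agree if they agree on both pieces. -/
lemma hom_ext {P T : Scheme.{u}} (k : P ⟶ (K).subscheme) [IsOpenImmersion k] (e₁ e₂ : P ⟶ T)
    (ha : ∀ {R : Scheme.{u}} (x : R ⟶ P) (y : R ⟶ I.subscheme), x ≫ k = y ≫ ιa → x ≫ e₁ = x ≫ e₂)
    (hb : ∀ {R : Scheme.{u}} (x : R ⟶ P) (y : R ⟶ J.subscheme), x ≫ k = y ≫ ιb → x ≫ e₁ = x ≫ e₂) :
    e₁ = e₂ := by
  have hpt : ∀ p : P, e₁ p = e₂ p := fun p ↦ by
    rcases exists_preimage I J (k p) with ⟨x, hx⟩ | ⟨x, hx⟩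
    · obtain ⟨r, hr, -⟩ := Scheme.Pullback.exists_preimage_pullback (f := k) (g := ιa) p x hx.symm
      rw [← hr, ← Scheme.Hom.comp_apply, ← Scheme.Hom.comp_apply,
        ha (pullback.fst k ιa) (pullback.snd k ιa) pullback.condition]
    · obtain ⟨r, hr, -⟩ := Scheme.Pullback.exists_preimage_pullback (f := k) (g := ιb) p x hx.symm
      rw [← hr, ← Scheme.Hom.comp_apply, ← Scheme.Hom.comp_apply,
        hb (pullback.fst k ιb) (pullback.snd k ιb) pullback.condition]
  refine Scheme.hom_ext_of_forall _ _ fun p ↦ ?_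
  obtain ⟨_, ⟨(T' : T.Opens), (hT' : IsAffineOpen T'), rfl⟩, hpT, -⟩ :=
    T.isBasis_affineOpens.exists_subset_of_mem_open (Set.mem_univ (e₁ p)) isOpen_univ
  obtain ⟨O, hO, hOeq⟩ := (K).subschemeι.isEmbedding.isInducing.isOpen_iff.mp
    (k ''ᵁ (e₁ ⁻¹ᵁ T')).isOpen
  have hpO : (K).subschemeι (k p) ∈ O := hOeq.ge ⟨p, hpT, rfl⟩
  obtain ⟨_, ⟨(U : S.Opens), (hU : IsAffineOpen U), rfl⟩, hpU, hUO⟩ := S.isBasis_affineOpens.exists_subset_of_mem_open hpO hO
  let U' : S.affineOpens := ⟨U, hU⟩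
  have hle : Set.range (chart (K) U') ⊆ k '' (e₁ ⁻¹' (T' : Set T)) := by
    rw [range_chart]
    exact fun z hz ↦ hOeq.le (hUO hz)
  let m : Spec (.of (Γ(S, U) ⧸ (K).ideal U')) ⟶ P :=
    IsOpenImmersion.lift k (chart (K) U') (hle.trans (Set.image_subset_range _ _))
  have hm : m ≫ k = chart (K) U' := IsOpenImmersion.lift_fac _ _ _
  haveI : IsOpenImmersion m := by
    haveI : IsOpenImmersion (m ≫ k) := hm ▸ inferInstance
    exact IsOpenImmersion.of_comp m k
  have hp : p ∈ m.opensRange := by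
    obtain ⟨w, hw⟩ : k p ∈ Set.range (chart (K) U') := (range_chart _ U').ge hpU
    refine ⟨w, k.isOpenEmbedding.injective ?_⟩
    rw [← hw, ← hm, Scheme.Hom.comp_apply]
  refine ⟨m.opensRange, hp, ?_⟩
  rw [← cancel_epi m.isoOpensRange.hom, ← Category.assoc, ← Category.assoc,
    Scheme.Hom.isoOpensRange_hom_ι]
  -- now compare on the chart
  haveI : IsAffine T' := hT'
  have h₁ : Set.range (m ≫ e₁) ⊆ Set.range T'.ι := by
    rintro _ ⟨w, rfl⟩
    rw [Scheme.Opens.range_ι]
    obtain ⟨p', hp', he⟩ := hle ⟨w, rfl⟩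
    rw [← hm, Scheme.Hom.comp_apply] at he
    rw [Scheme.Hom.comp_apply, ← k.isOpenEmbedding.injective he]
    exact hp'
  have h₂ : Set.range (m ≫ e₂) ⊆ Set.range T'.ι := by
    rintro _ ⟨w, rfl⟩
    rw [Scheme.Hom.comp_apply, ← hpt, ← Scheme.Hom.comp_apply]
    exact h₁ ⟨w, rfl⟩
  rw [← IsOpenImmersion.lift_fac T'.ι (m ≫ e₁) h₁, ← IsOpenImmersion.lift_fac T'.ι (m ≫ e₂) h₂]
  congr 1
  refine ext_of_isAffine ?_
  rw [← cancel_mono (Scheme.ΓSpecIso _).hom]
  have main : ∀ (L : S.IdealSheafData) (h : I ⊓ J ≤ L),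
      (∀ {R : Scheme.{u}} (x : R ⟶ P) (y : R ⟶ L.subscheme),
        x ≫ k = y ≫ Scheme.IdealSheafData.inclusion h → x ≫ e₁ = x ≫ e₂) →
      ((IsOpenImmersion.lift T'.ι (m ≫ e₁) h₁).appTop ≫ (Scheme.ΓSpecIso _).hom) ≫
          CommRingCat.ofHom (Ideal.Quotient.factor (h U')) =
        ((IsOpenImmersion.lift T'.ι (m ≫ e₂) h₂).appTop ≫ (Scheme.ΓSpecIso _).hom) ≫
          CommRingCat.ofHom (Ideal.Quotient.factor (h U')) := by
    intro L h hL
    have := hL (Spec.map (CommRingCat.ofHom (Ideal.Quotient.factor (h U'))) ≫ m) (chart L U')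
      (by rw [Category.assoc, hm, factor_chart])
    have h' : Spec.map (CommRingCat.ofHom (Ideal.Quotient.factor (h U'))) ≫
        IsOpenImmersion.lift T'.ι (m ≫ e₁) h₁ =
        Spec.map (CommRingCat.ofHom (Ideal.Quotient.factor (h U'))) ≫
          IsOpenImmersion.lift T'.ι (m ≫ e₂) h₂ := by
      rw [← cancel_mono T'.ι, Category.assoc, Category.assoc, IsOpenImmersion.lift_fac,
        IsOpenImmersion.lift_fac, ← Category.assoc, ← Category.assoc, this]
    have h'' := congrArg (fun f ↦ f.appTop ≫ (Scheme.ΓSpecIso _).hom) h'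
    simpa only [Scheme.Hom.comp_appTop, Category.assoc, Scheme.ΓSpecIso_naturality] using h''
  have e1 := main I inf_le_left @ha
  have e2 := main J inf_le_right @hb
  ext r
  exact factor_inf_injective (I.ideal U') (J.ideal U') (congr(($e1).hom r)) (congr(($e2).hom r))

variable {T : Scheme.{u}} (f : I.subscheme ⟶ T) (g : J.subscheme ⟶ T)
  (H : Scheme.IdealSheafData.inclusion (le_sup_left : I ≤ I ⊔ J) ≫ f =
    Scheme.IdealSheafData.inclusion (le_sup_right : J ≤ I ⊔ J) ≫ g)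

include H in
lemma apply_eq {x : I.subscheme} {y : J.subscheme} (h : I.subschemeι x = J.subschemeι y) :
    f x = g y := by
  obtain ⟨w, hw⟩ : I.subschemeι x ∈ Set.range (I ⊔ J).subschemeι := by
    rw [Scheme.IdealSheafData.range_subschemeι, Scheme.IdealSheafData.support_sup]
    exact ⟨I.range_subschemeι.le ⟨x, rfl⟩, h ▸ J.range_subschemeι.le ⟨y, rfl⟩⟩
  have hx : Scheme.IdealSheafData.inclusion (le_sup_left : I ≤ I ⊔ J) w = x :=
    I.subschemeι.isEmbedding.injective (by
      rw [← Scheme.Hom.comp_apply, Scheme.IdealSheafData.inclusion_subschemeι, hw])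
  have hy : Scheme.IdealSheafData.inclusion (le_sup_right : J ≤ I ⊔ J) w = y :=
    J.subschemeι.isEmbedding.injective (by
      rw [← Scheme.Hom.comp_apply, Scheme.IdealSheafData.inclusion_subschemeι, hw, h])
  rw [← hx, ← hy, ← Scheme.Hom.comp_apply, ← Scheme.Hom.comp_apply, H]

include H in
/-- Around every point there is a chart to which the two morphisms extend. -/
lemma exists_chart_lift (z : (K).subscheme) :
    ∃ (U : S.affineOpens) (h : Spec (.of (Γ(S, U) ⧸ (K).ideal U)) ⟶ T),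
      (K).subschemeι z ∈ U.1 ∧
      Spec.map (CommRingCat.ofHom (Ideal.Quotient.factor ((inf_le_left : I ⊓ J ≤ I) U))) ≫ h =
        chart I U ≫ f ∧
      Spec.map (CommRingCat.ofHom (Ideal.Quotient.factor ((inf_le_right : I ⊓ J ≤ J) U))) ≫ h =
        chart J U ≫ g := by
  set s := (K).subschemeι z
  obtain ⟨t, hft, hgt⟩ : ∃ t, (∀ x, I.subschemeι x = s → f x = t) ∧
      ∀ y, J.subschemeι y = s → g y = t := by
    rcases exists_preimage I J z with ⟨x, hx⟩ | ⟨y, hy⟩
    · have hxs : I.subschemeι x = s := by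
        rw [← Scheme.IdealSheafData.inclusion_subschemeι (inf_le_left : I ⊓ J ≤ I),
          Scheme.Hom.comp_apply, hx]
      exact ⟨f x, fun x' hx' ↦ congrArg f (I.subschemeι.isEmbedding.injective (hx'.trans hxs.symm)),
        fun y hy ↦ (apply_eq I J f g H (hxs.trans hy.symm)).symm⟩
    · have hys : J.subschemeι y = s := by
        rw [← Scheme.IdealSheafData.inclusion_subschemeι (inf_le_right : I ⊓ J ≤ J),
          Scheme.Hom.comp_apply, hy]
      exact ⟨g y, fun x hx ↦ apply_eq I J f g H (hx.trans hys.symm),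
        fun y' hy' ↦ congrArg g (J.subschemeι.isEmbedding.injective (hy'.trans hys.symm))⟩
  obtain ⟨_, ⟨(T' : T.Opens), (hT' : IsAffineOpen T'), rfl⟩, htT, -⟩ :=
    T.isBasis_affineOpens.exists_subset_of_mem_open (Set.mem_univ t) isOpen_univ
  let O : Set S := (I.subschemeι '' ((f ⁻¹ᵁ T' : Set I.subscheme))ᶜ)ᶜ ∩
    (J.subschemeι '' ((g ⁻¹ᵁ T' : Set J.subscheme))ᶜ)ᶜ
  have hO : IsOpen O :=
    (I.subschemeι.isClosedEmbedding.isClosedMap _ (f ⁻¹ᵁ T').isOpen.isClosed_compl).isOpen_compl.inter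
      (J.subschemeι.isClosedEmbedding.isClosedMap _ (g ⁻¹ᵁ T').isOpen.isClosed_compl).isOpen_compl
  have hsO : s ∈ O := by
    refine ⟨?_, ?_⟩
    · rintro ⟨x, hx, hxs⟩
      exact hx (show f x ∈ T' from (hft x hxs).symm ▸ htT)
    · rintro ⟨y, hy, hys⟩
      exact hy (show g y ∈ T' from (hgt y hys).symm ▸ htT)
  obtain ⟨_, ⟨(U : S.Opens), (hU : IsAffineOpen U), rfl⟩, hsU, hUO⟩ := S.isBasis_affineOpens.exists_subset_of_mem_open hsO hO
  let U' : S.affineOpens := ⟨U, hU⟩
  haveI : IsAffine T' := hT'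
  have h₁ : Set.range (chart I U' ≫ f) ⊆ Set.range T'.ι := by
    rintro _ ⟨w, rfl⟩
    rw [Scheme.Opens.range_ι, Scheme.Hom.comp_apply]
    by_contra hw
    exact (hUO ((range_chart I U').le ⟨w, rfl⟩)).1 ⟨_, hw, rfl⟩
  have h₂ : Set.range (chart J U' ≫ g) ⊆ Set.range T'.ι := by
    rintro _ ⟨w, rfl⟩
    rw [Scheme.Opens.range_ι, Scheme.Hom.comp_apply]
    by_contra hw
    exact (hUO ((range_chart J U').le ⟨w, rfl⟩)).2 ⟨_, hw, rfl⟩
  let φ := IsOpenImmersion.lift T'.ι (chart I U' ≫ f) h₁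
  let ψ := IsOpenImmersion.lift T'.ι (chart J U' ≫ g) h₂
  have hagree : Spec.map (CommRingCat.ofHom
      (Ideal.Quotient.factor ((le_sup_left : I ≤ I ⊔ J) U'))) ≫ φ =
      Spec.map (CommRingCat.ofHom
        (Ideal.Quotient.factor ((le_sup_right : J ≤ I ⊔ J) U'))) ≫ ψ := by
    rw [← cancel_mono T'.ι, Category.assoc, Category.assoc, IsOpenImmersion.lift_fac,
      IsOpenImmersion.lift_fac, ← Category.assoc, ← Category.assoc, factor_chart, factor_chart,
      Category.assoc, Category.assoc, H]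
  have hring := congrArg (fun a ↦ a.appTop ≫ (Scheme.ΓSpecIso _).hom) hagree
  simp only [Scheme.Hom.comp_appTop, Category.assoc, Scheme.ΓSpecIso_naturality] at hring
  obtain ⟨χ, hχ₁, hχ₂⟩ := exists_lift (I.ideal U') (J.ideal U')
    (φ.appTop ≫ (Scheme.ΓSpecIso _).hom).hom (ψ.appTop ≫ (Scheme.ΓSpecIso _).hom).hom
    (fun r ↦ congr(($hring).hom r))
  refine ⟨U', Spec.map (CommRingCat.ofHom χ) ≫ (T' : Scheme).isoSpec.inv ≫ T'.ι, hsU, ?_, ?_⟩
  · rw [← IsOpenImmersion.lift_fac T'.ι (chart I U' ≫ f) h₁]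
    simp only [← Category.assoc]
    refine congrArg (· ≫ T'.ι) ((Iso.comp_inv_eq _).mpr ?_)
    rw [Scheme.isoSpec_hom, Scheme.toSpecΓ_naturality, ← SpecMap_ΓSpecIso_hom, ← Spec.map_comp,
      ← Spec.map_comp]
    exact congrArg Spec.map (CommRingCat.hom_ext hχ₁)
  · rw [← IsOpenImmersion.lift_fac T'.ι (chart J U' ≫ g) h₂]
    simp only [← Category.assoc]
    refine congrArg (· ≫ T'.ι) ((Iso.comp_inv_eq _).mpr ?_)
    rw [Scheme.isoSpec_hom, Scheme.toSpecΓ_naturality, ← SpecMap_ΓSpecIso_hom, ← Spec.map_comp,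
      ← Spec.map_comp]
    exact congrArg Spec.map (CommRingCat.hom_ext hχ₂)

/-- A chart extension is compatible with any test morphism into the piece. -/
lemma chart_lift_spec {L : S.IdealSheafData} (h : I ⊓ J ≤ L) (U : S.affineOpens)
    (e : Spec (.of (Γ(S, U) ⧸ (K).ideal U)) ⟶ T) (φ : L.subscheme ⟶ T)
    (he : Spec.map (CommRingCat.ofHom (Ideal.Quotient.factor (h U))) ≫ e = chart L U ≫ φ)
    {R : Scheme.{u}} (x : R ⟶ Spec (.of (Γ(S, U) ⧸ (K).ideal U))) (y : R ⟶ L.subscheme)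
    (hxy : x ≫ chart (K) U = y ≫ Scheme.IdealSheafData.inclusion h) :
    x ≫ e = y ≫ φ := by
  have hy : Set.range y ⊆ Set.range (chart L U) := by
    rintro _ ⟨r, rfl⟩
    rw [range_chart, Set.mem_preimage, ← Scheme.IdealSheafData.inclusion_subschemeι h,
      Scheme.Hom.comp_apply, ← Scheme.Hom.comp_apply y, ← hxy, Scheme.Hom.comp_apply]
    exact (range_chart (K) U).le ⟨x r, rfl⟩
  have hl := IsOpenImmersion.lift_fac (chart L U) y hy
  have hx : x = IsOpenImmersion.lift (chart L U) y hy ≫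
      Spec.map (CommRingCat.ofHom (Ideal.Quotient.factor (h U))) := by
    rw [← cancel_mono (chart (K) U), hxy, Category.assoc, factor_chart, ← Category.assoc, hl]
  conv_rhs => rw [← hl]
  rw [hx, Category.assoc, he, Category.assoc]

include H in
theorem exists_desc : ∃ h : (K).subscheme ⟶ T, ιa ≫ h = f ∧ ιb ≫ h = g := by
  choose U e hzU he₁ he₂ using exists_chart_lift I J f g H
  let 𝒰 : (K).subscheme.OpenCover :=
    Scheme.IdealSheafData.subscheme (K) |>.openCoverOfIsOpenCover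
      (fun z ↦ (chart (K) (U z)).opensRange) (IsOpenCover.mk (eq_top_iff.mpr fun z _ ↦
        Opens.mem_iSup.mpr ⟨z, (range_chart (K) (U z)).ge (hzU z)⟩))
  let e' : ∀ z, ((chart (K) (U z)).opensRange : Scheme) ⟶ T :=
    fun z ↦ (chart (K) (U z)).isoOpensRange.inv ≫ e z
  have hchart : ∀ z, (chart (K) (U z)).isoOpensRange.inv ≫ chart (K) (U z) = 𝒰.f z :=
    fun z ↦ Scheme.Hom.isoOpensRange_inv_comp _
  have spec : ∀ (z : (K).subscheme),
      (∀ {R : Scheme.{u}} (x : R ⟶ 𝒰.X z) (y : R ⟶ I.subscheme),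
        x ≫ 𝒰.f z = y ≫ ιa → x ≫ e' z = y ≫ f) ∧
      ∀ {R : Scheme.{u}} (x : R ⟶ 𝒰.X z) (y : R ⟶ J.subscheme),
        x ≫ 𝒰.f z = y ≫ ιb → x ≫ e' z = y ≫ g := fun z ↦
    ⟨fun {R} x y hxy ↦ (Category.assoc _ _ _).symm.trans
      (chart_lift_spec I J inf_le_left (U z) (e z) f (he₁ z) (x ≫ _) y
        ((Category.assoc _ _ _).trans ((congrArg (x ≫ ·) (hchart z)).trans hxy))),
    fun {R} x y hxy ↦ (Category.assoc _ _ _).symm.trans
      (chart_lift_spec I J inf_le_right (U z) (e z) g (he₂ z) (x ≫ _) y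
        ((Category.assoc _ _ _).trans ((congrArg (x ≫ ·) (hchart z)).trans hxy)))⟩
  have compat : ∀ z z', pullback.fst (𝒰.f z) (𝒰.f z') ≫ e' z = pullback.snd _ _ ≫ e' z' :=
    fun z z' ↦ hom_ext I J (pullback.fst (𝒰.f z) (𝒰.f z') ≫ 𝒰.f z) _ _
      (fun x y hxy ↦ by
        exact ((Category.assoc _ _ _).symm.trans ((spec z).1 (x ≫ pullback.fst _ _) y
          ((Category.assoc _ _ _).trans hxy))).trans (((spec z').1 (x ≫ pullback.snd _ _) y
          ((Category.assoc _ _ _).trans ((congrArg (x ≫ ·) pullback.condition.symm).trans hxy))).symm.trans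
            (Category.assoc _ _ _)))
      (fun x y hxy ↦ by
        exact ((Category.assoc _ _ _).symm.trans ((spec z).2 (x ≫ pullback.fst _ _) y
          ((Category.assoc _ _ _).trans hxy))).trans (((spec z').2 (x ≫ pullback.snd _ _) y
          ((Category.assoc _ _ _).trans ((congrArg (x ≫ ·) pullback.condition.symm).trans hxy))).symm.trans
            (Category.assoc _ _ _)))
  refine ⟨𝒰.glueMorphisms e' compat, ?_, ?_⟩
  · refine Scheme.Cover.hom_ext (𝒰.pullback₁ ιa) _ _ fun z ↦ ?_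
    change pullback.fst ιa (𝒰.f z) ≫ ιa ≫ _ = pullback.fst ιa (𝒰.f z) ≫ f
    exact (Category.assoc _ _ _).symm.trans ((congrArg (· ≫ _) pullback.condition).trans
      ((Category.assoc _ _ _).trans ((congrArg (_ ≫ ·) (Scheme.Cover.ι_glueMorphisms 𝒰 e' compat z)).trans
        ((spec z).1 _ _ pullback.condition.symm))))
  · refine Scheme.Cover.hom_ext (𝒰.pullback₁ ιb) _ _ fun z ↦ ?_
    change pullback.fst ιb (𝒰.f z) ≫ ιb ≫ _ = pullback.fst ιb (𝒰.f z) ≫ g
    exact (Category.assoc _ _ _).symm.trans ((congrArg (· ≫ _) pullback.condition).trans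
      ((Category.assoc _ _ _).trans ((congrArg (_ ≫ ·) (Scheme.Cover.ι_glueMorphisms 𝒰 e' compat z)).trans
        ((spec z).2 _ _ pullback.condition.symm))))

/-- The union of two closed subschemes is their pushout along the intersection. -/
theorem isPushout : IsPushout (Scheme.IdealSheafData.inclusion (le_sup_left : I ≤ I ⊔ J))
    (Scheme.IdealSheafData.inclusion (le_sup_right : J ≤ I ⊔ J)) ιa ιb := by
  refine IsPushout.of_isColimit' ⟨(Scheme.IdealSheafData.inclusion_comp _ _).trans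
    (Scheme.IdealSheafData.inclusion_comp _ _).symm⟩ ?_
  choose d hd₁ hd₂ using fun s : PushoutCocone
    (Scheme.IdealSheafData.inclusion (le_sup_left : I ≤ I ⊔ J))
    (Scheme.IdealSheafData.inclusion (le_sup_right : J ≤ I ⊔ J)) ↦
      exists_desc I J s.inl s.inr s.condition
  refine PushoutCocone.IsColimit.mk _ d hd₁ hd₂ fun s m h₁ h₂ ↦ ?_
  refine hom_ext I J (𝟙 _) _ _ (fun x y hxy ↦ ?_) (fun x y hxy ↦ ?_)
  · rw [Category.comp_id] at hxy
    rw [hxy, Category.assoc, Category.assoc, h₁, hd₁]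
  · rw [Category.comp_id] at hxy
    rw [hxy, Category.assoc, Category.assoc, h₂, hd₂]

end Groth.Agent.SubUnion
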